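import Groth.Agent.BunMod.K536.Local

/-!
# Interpolation and the local estimate for `T = ∑ a_l ⊗ b_l`
-/

set_option autoImplicit false
universe v

open TensorProduct

namespace K536.Sum

open K536.Interp K536.Local

section comm

variable {k A B : Type*} [Field k] [AddCommGroup A] [Module k A] [AddCommGroup B] [Module k B] {ι : Type*} [Fintype ι]

/-- `∑ a_l ⊗ e_l`. -/
noncomputable def TT (k : Type*) [Field k] {A : Type*} [AddCommGroup A] [Module k A] {ι : Type*} [Fintype ι]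
    [DecidableEq ι] (a : ι → A) : A ⊗[k] (ι → k) := ∑ l, a l ⊗ₜ Pi.single l (1 : k)

/-- `e_l ↦ b_l`, composed with a functional. -/
noncomputable def ex (k : Type*) [Field k] {B R : Type*} [AddCommGroup B] [Module k B] [CommRing R] [Algebra k R]
    {ι : Type*} [Fintype ι] (b : ι → B) (ψ : B →ₗ[k] R) : (ι → k) →ₗ[k] R :=
  ψ ∘ₗ Fintype.linearCombination k b

variable {R : Type*} [CommRing R] [Algebra k R]

theorem ex_single [DecidableEq ι] (b : ι → B) (ψ : B →ₗ[k] R) (l : ι) : ex k b ψ (Pi.single l 1) = ψ (b l) := by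
  rw [ex, LinearMap.comp_apply, Fintype.linearCombination_apply_single, one_smul]

theorem ex_apply (b : ι → B) (ψ : B →ₗ[k] R) (y : ι → k) : ex k b ψ y = ψ (Fintype.linearCombination k b y) := rfl

theorem prA_TT [DecidableEq ι] (a : ι → A) (b : ι → B) (φ : A →ₗ[k] R) (ψ : B →ₗ[k] R) :
    prA φ (ex k b ψ) (TT k a) = ∑ l, φ (a l) * ψ (b l) := by
  rw [TT, map_sum]
  exact Finset.sum_congr rfl fun l _ => by rw [prA_tmul, ex_single]

theorem pr_TT {L : Type*} [Field L] [Algebra k L] [DecidableEq ι] (a : ι → A) (b : ι → B) (φ : A →ₗ[k] L)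
    (ψ : B →ₗ[k] L) : pr φ (ex k b ψ) (TT k a) = ∑ l, φ (a l) * ψ (b l) := prA_TT a b φ ψ

end comm

section main

variable {k K L A B : Type*} [Field k] [Field K] [Field L] [Algebra k K] [Algebra K L] [Algebra k L]
  [IsScalarTower k K L] [AddCommGroup A] [Module k A] [AddCommGroup B] [Module k B] {ι : Type*} [Fintype ι]

/-- **Interpolation** for `T = ∑ a_l ⊗ b_l`. -/
theorem finrank_le [CharZero K] [FiniteDimensional K L] [IsGalois K L] {J : Type*} [Finite J]
    (φ : J → A →ₗ[k] L) (ψ : J → B →ₗ[k] L) (a : ι → A) (b : ι → B) (hT : ∀ j, ∑ l, φ j (a l) * ψ j (b l) ≠ 0)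
    (hdich : ∀ (i j : J) (σ : L ≃ₐ[K] L), ∑ l, φ j (a l) * σ (ψ i (b l)) = 0 ∨ ∃ c : L, ∀ x, φ j x = c * σ (φ i x))
    (hsep : ∀ x, (∀ j, φ j x = 0) → x = 0)
    (hconst : ∀ j x y, ∃ z : k, Algebra.trace K L (φ j x * ψ j y / ∑ l, φ j (a l) * ψ j (b l)) = algebraMap k K z) :
    Module.finrank k A ≤ Fintype.card ι := by
  classical
  have h := Interp.finrank_le (K := K) φ (fun j => ex k b (ψ j)) (TT k a) (fun j => by rw [pr_TT]; exact hT j)
    (fun i j σ => by
      have h1 : conj σ (ex k b (ψ i)) = ex k b (conj σ (ψ i)) := by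
        ext y
        rfl
      rw [h1, pr_TT]
      exact hdich i j σ) hsep
    (fun j x y => by
      rw [pr_TT]
      exact hconst j x (Fintype.linearCombination k b y))
  rwa [Module.finrank_fintype_fun_eq_card] at h

end main

section loc

variable {k : Type*} [Field k] {L : Type*} [Field L] [Algebra k L] {A B : Type*} [AddCommGroup A] [Module k A]
  [AddCommGroup B] [Module k B] {Ω : Type*} [Field Ω] [Algebra k Ω] {ι : Type*} [Fintype ι]

/-- **The local form of the estimate** for `T = ∑ a_l ⊗ b_l`. -/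
theorem coeff_of_local (a : ι → A) (b : ι → B) (φ : A →ₗ[k] L) (ψ : B →ₗ[k] L) (e : ℕ) (he : 0 < e)
    (Φ : L →+* LaurentSeries Ω) (φ' : A →ₗ[k] PowerSeries Ω) (ψ' : B →ₗ[k] PowerSeries Ω) (u v : LaurentSeries Ω)
    (hφ : ∀ x, Φ (φ x) = u * (φ' x : LaurentSeries Ω)) (hψ : ∀ y, Φ (ψ y) = v * (ψ' y : LaurentSeries Ω))
    (hT : ∑ l, φ (a l) * ψ (b l) ≠ 0) (hP : ∑ l, φ' (a l) * ψ' (b l) ∣ PowerSeries.X ^ (e - 1)) (x : A) (y : B)
    (n : ℤ) (hn : n ≤ -(e : ℤ)) : (Φ (φ x * ψ y / ∑ l, φ (a l) * ψ (b l))).coeff n = 0 := by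
  by_cases hy : ∃ c : ι → k, y = Fintype.linearCombination k b c
  · classical
    obtain ⟨c, rfl⟩ := hy
    have h := Local.coeff_of_local φ (ex k b ψ) (TT k a) e he Φ φ' (ex k b ψ') u v hφ (fun y => hψ _)
      (by rw [pr_TT]; exact hT) (by rw [prA_TT]; exact hP) x c n hn
    rwa [pr_TT] at h
  · classical
    -- add `y` to the family with `a = 0`
    let a' : Option ι → A := fun o => o.elim 0 a
    let b' : Option ι → B := fun o => o.elim y b
    have h1 : ∀ (φ : A →ₗ[k] L) (ψ : B →ₗ[k] L),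
        ∑ l, φ (a' l) * ψ (b' l) = ∑ l, φ (a l) * ψ (b l) := by
      intro φ ψ
      rw [Fintype.sum_option]
      simp [a', b']
    have h2 : ∀ (φ : A →ₗ[k] PowerSeries Ω) (ψ : B →ₗ[k] PowerSeries Ω),
        ∑ l, φ (a' l) * ψ (b' l) = ∑ l, φ (a l) * ψ (b l) := by
      intro φ ψ
      rw [Fintype.sum_option]
      simp [a', b']
    have h := Local.coeff_of_local φ (ex k b' ψ) (TT k a') e he Φ φ' (ex k b' ψ') u v hφ (fun y => hψ _)
      (by rw [pr_TT, h1]; exact hT) (by rw [prA_TT, h2]; exact hP) x (Pi.single none 1) n hn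
    rw [pr_TT, h1, ex_single] at h
    exact h

end loc

end K536.Sum
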