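import Groth.Agent.BunMod.K890.Seed
import Groth.Agent.BunMod.K429.Val
import Groth.Agent.BunMod.K207.SumConst
import Groth.Agent.BunMod.K536.Sum

/-!
# S16926, assembly: the statements of the inputs

* `REG`  : seeds have limits at the places over the generic line, with the bound for the theta ideal.
* `VAN`  : two subbundles over the same field: either `θ(E_s ⊗ F_t) = 0` or `E_s ≅ E_t`.
* `SEED` : a seed in every nonempty open of `M₁`.
* `TMix`, `TSub` : the element `T ∈ H⁰(M₁, A) ⊗ H⁰(M₂, B)` cutting out the theta divisor of `E ⊗ F`.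
-/

set_option autoImplicit false
universe u

open CategoryTheory CategoryTheory.Limits AlgebraicGeometry TopologicalSpace TensorProduct

namespace K536.Asm

open K140.BM K824.Join K890.KS K890.Seed K207.SumConst K536.Interp K536.Local

/-- The generic coordinates in an extension of `k(x_1, …, x_M)`. -/
noncomputable def crd (k : Type u) [Field k] (M : ℕ) (L : Type u) [Field L] [Algebra (KK k M) L] (i : Fin M) : L :=
  algebraMap (KK k M) L (algebraMap (PP k M) (KK k M) (MvPolynomial.X i))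

/-- `Ω⟦s⟧ ⟶ Ω((s))` over `k`. -/
noncomputable def io (k : Type u) [Field k] (Ω : Type u) [Field Ω] [Algebra k Ω] :
    PowerSeries Ω →ₐ[k] LaurentSeries Ω :=
  { HahnSeries.ofPowerSeries ℤ Ω with
    commutes' := fun _ => rfl }

theorem io_apply (k : Type u) [Field k] (Ω : Type u) [Field Ω] [Algebra k Ω] (p : PowerSeries Ω) :
    io k Ω p = (p : LaurentSeries Ω) := rfl

variable {k : Type u} [Field k] {X : Scheme.{u}} [X.Over (Spec (CommRingCat.of k))] {K G : X.Modules} {M : ℕ}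
  (e : Fin M → (K ⟶ G)) (N : X.Modules) (r m : ℕ)

/-- The theta ideal over `Spec R` as an ideal of global functions. -/
noncomputable def thT (N : X.Modules) (R : Type u) [CommRing R] [Algebra k R]
    (E : (PicF.XT (st k X) (SpA k R)).Modules) : Ideal Γ((SpA k R).left, ⊤) :=
  (thetaIdeal k N (SpA k R) E).ideal ⟨⊤, isAffineOpen_top (Spec (CommRingCat.of R))⟩

/-- **REG** -/
def REG : Prop :=
  ∀ (Ω : Type u) [Field Ω] [Algebra k Ω] (a b : Fin M → Ω), Gen k Ω a b →
    ∀ (L : Type u) [Field L] [Algebra k L] (x : Fin M → L) (e₀ : ℕ) (τ : LaurentSeries Ω)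
      (Φ : L →ₐ[k] LaurentSeries Ω), 0 < e₀ → IsPlace e₀ τ →
      (∀ i, Φ (x i) = HahnSeries.C (a i) + τ * HahnSeries.C (b i)) →
      ∀ s : SubFam k e L x N r m, ∃ (c' : Fin M → PowerSeries Ω) (s' : SubFam k e (PowerSeries Ω) c' N r m),
        Nonempty (pl k X (mA (io k Ω)) s'.E ≅ pl k X (mA Φ) s.E) ∧
        Nonempty (pl k X (mA (io k Ω)) s'.F ≅ pl k X (mA Φ) s.F) ∧
        fn k (PowerSeries.X ^ (e₀ - 1)) ∈ thT N (PowerSeries Ω) (CohB1.tensorMod s'.E s'.F)

/-- **VANISH / ISO** -/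
def VAN : Prop :=
  ∀ (L : Type u) [Field L] [Algebra k L] (c : Fin M → L) (s t : SubFam k e L c N r m),
    (s.i ≫ t.p ≠ 0 → thetaIdeal k N (SpA k L) (CohB1.tensorMod s.E t.F) = ⊥) ∧
    (s.i ≫ t.p = 0 → Nonempty (s.E ≅ t.E))

variable {r m}
variable {M₁ : Over (Spec (CommRingCat.of k))} (φ₁ : (BunMod.USS (st k X) r 0).Hom ⊤ M₁)
  {M₂ : Over (Spec (CommRingCat.of k))} (φ₂ : (BunMod.USS (st k X) m 0).Hom ⊤ M₂)

/-- The classifying morphism. -/
noncomputable abbrev cl {r : ℕ} {M₁ : Over (Spec (CommRingCat.of k))} (φ₁ : (BunMod.USS (st k X) r 0).Hom ⊤ M₁)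
    {T : Over (Spec (CommRingCat.of k))} (E : (PicF.XT (st k X) T).Modules) (h : BunMod.ussOK (st k X) r 0 T E) :
    T ⟶ M₁ := φ₁.app T E trivial ⟨trivial, h⟩

/-- **SEEDS** -/
def SEED (m : ℕ) : Prop :=
  ∀ D : M₁.left.Opens, (D : Set M₁.left).Nonempty → ∃ (L : Type u) (_ : Field L) (_ : Algebra k L)
    (_ : Algebra (KK k M) L) (_ : IsScalarTower k (KK k M) L) (_ : FiniteDimensional (KK k M) L)
    (s : SubFam k e L (crd k M L) N r m), thetaIdeal k N (SpA k L) (CohB1.tensorMod s.E s.F) = ⊤ ∧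
      (cl φ₁ s.E s.okE).left (K429.Val.pt0 k L) ∈ D

variable (A : M₁.left.Modules) (B : M₂.left.Modules)

/-- **T for mixed pairs** over a field. -/
def TMix (T : K429.Val.H0 M₁ A ⊗[k] K429.Val.H0 M₂ B) : Prop :=
  ∀ (L : Type u) [Field L] [Algebra k L] (E F : (PicF.XT (st k X) (SpA k L)).Modules)
    (hE : BunMod.ussOK (st k X) r 0 (SpA k L) E) (hF : BunMod.ussOK (st k X) m 0 (SpA k L) F)
    (v : K429.Val.H0 M₁ A →ₗ[k] L) (w : K429.Val.H0 M₂ B →ₗ[k] L),
    K429.Val.IsVal A (cl φ₁ E hE) v → K429.Val.IsVal B (cl φ₂ F hF) w →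
    thetaIdeal k N (SpA k L) (CohB1.tensorMod E F) = ⊥ → pr v w T = 0

/-- **T for subbundles** over a local ring. -/
def TSub (T : K429.Val.H0 M₁ A ⊗[k] K429.Val.H0 M₂ B) : Prop :=
  ∀ (R : Type u) [CommRing R] [Algebra k R] [IsLocalRing R] (c : Fin M → R) (s : SubFam k e R c N r m)
    (v : K429.Val.H0 M₁ A →ₗ[k] R) (w : K429.Val.H0 M₂ B →ₗ[k] R),
    K429.Val.IsVal A (cl φ₁ s.E s.okE) v → K429.Val.IsVal B (cl φ₂ s.F s.okF) w →
    thT N R (CohB1.tensorMod s.E s.F) = Ideal.span {fn k (prA v w T)}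

end K536.Asm
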