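import Mathlib

/-!
# Two lemmas for the assembly: finite intersections, common Galois extensions
-/

set_option autoImplicit false
universe u v

namespace K536.AsmAlg

section fin

variable {k A : Type*} [Field k] [AddCommGroup A] [Module k A] [FiniteDimensional k A]

/-- If every nonzero vector is outside of some member of a class of subspaces, then finitely many members have
intersection zero. -/
theorem exists_finite_inf (P : Submodule k A → Prop) (h : ∀ x : A, x ≠ 0 → ∃ S, P S ∧ x ∉ S) :
    ∃ (n : ℕ) (S : Fin n → Submodule k A), (∀ i, P (S i)) ∧ ⨅ i, S i = ⊥ := by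
  have key : ∀ (d : ℕ) (W : Submodule k A), Module.finrank k W = d →
      ∃ (n : ℕ) (S : Fin n → Submodule k A), (∀ i, P (S i)) ∧ W ⊓ ⨅ i, S i = ⊥ := by
    intro d
    induction d using Nat.strong_induction_on with
    | _ d ih =>
      intro W hW
      by_cases hbot : W = ⊥
      · exact ⟨0, fun i => i.elim0, fun i => i.elim0, by rw [hbot, bot_inf_eq]⟩
      · obtain ⟨x, hx, hx0⟩ := (Submodule.ne_bot_iff W).1 hbot
        obtain ⟨S, hS, hxS⟩ := h x hx0
        have hlt : W ⊓ S < W := lt_of_le_of_ne inf_le_left fun h0 => hxS ((inf_eq_left.1 h0) hx)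
        obtain ⟨n, S', hS', h0⟩ := ih _ (by rw [← hW]; exact Submodule.finrank_lt_finrank_of_lt hlt) (W ⊓ S) rfl
        refine ⟨n + 1, Fin.cons S S', ?_, ?_⟩
        · intro i
          refine Fin.cases hS (fun j => ?_) i
          simpa using hS' j
        · rw [← h0, inf_assoc]
          congr 1
          apply le_antisymm
          · refine le_inf ?_ (le_iInf fun j => ?_)
            · exact (iInf_le _ 0).trans (by simp)
            · exact (iInf_le _ j.succ).trans (by simp)
          · refine le_iInf fun i => ?_
            refine Fin.cases ?_ (fun j => ?_) i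
            · simp
            · simp only [Fin.cons_succ]
              exact inf_le_right.trans (iInf_le _ j)
  obtain ⟨n, S, hS, h0⟩ := key _ ⊤ rfl
  exact ⟨n, S, hS, by rwa [top_inf_eq] at h0⟩

end fin

/-- A common finite Galois extension in characteristic zero. -/
theorem exists_galois (K : Type u) [Field K] [CharZero K] {n : ℕ} (L : Fin n → Type u) [∀ i, Field (L i)]
    [∀ i, Algebra K (L i)] [∀ i, FiniteDimensional K (L i)] :
    ∃ (E : Type u) (_ : Field E) (_ : Algebra K E) (_ : FiniteDimensional K E) (_ : IsGalois K E),
      ∀ i, Nonempty (L i →ₐ[K] E) := by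
  let Ω := AlgebraicClosure K
  let τ : ∀ i, L i →ₐ[K] Ω := fun i => IsAlgClosed.lift
  let W : IntermediateField K Ω := ⨆ i, (τ i).fieldRange
  have hfd : ∀ i, FiniteDimensional K (τ i).fieldRange := fun i =>
    LinearEquiv.finiteDimensional (AlgEquiv.ofInjectiveField (τ i)).toLinearEquiv
  have : FiniteDimensional K W := IntermediateField.finiteDimensional_iSup_of_finite
  let E := IntermediateField.normalClosure K W Ω
  have h1 : FiniteDimensional K E := inferInstance
  have h2 : Normal K E := inferInstance
  refine ⟨E, inferInstance, inferInstance, h1, ⟨⟩, fun i => ⟨?_⟩⟩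
  have h3 : W ≤ E := IntermediateField.le_normalClosure W
  exact (IntermediateField.inclusion ((le_iSup (fun i => (τ i).fieldRange) i).trans h3)).comp (τ i).rangeRestrict

end K536.AsmAlg
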