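import Groth.Agent.BunMod.K536.AsmDefs
import Groth.Agent.BunMod.K536.AsmAlg

/-!
# S16926, assembly

`finrank_le : REG → VAN → SEED → TMix → TSub → dim H⁰(M₁, A) ≤ dim H⁰(M₂, B)`.
-/

set_option autoImplicit false
universe u

open CategoryTheory CategoryTheory.Limits AlgebraicGeometry TopologicalSpace TensorProduct

namespace K536.Asm

open K140.BM K824.Join K890.KS K890.Seed K207.SumConst K536.Interp K536.Local
open K429.Val hiding SpA

variable {k : Type u} [Field k] {X : Scheme.{u}} [X.Over (Spec (CommRingCat.of k))] {K G : X.Modules} {M : ℕ}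
  {e : Fin M → (K ⟶ G)} {N : X.Modules} {r m : ℕ}
  {M₁ : Over (Spec (CommRingCat.of k))} {φ₁ : (BunMod.USS (st k X) r 0).Hom ⊤ M₁}
  {M₂ : Over (Spec (CommRingCat.of k))} {φ₂ : (BunMod.USS (st k X) m 0).Hom ⊤ M₂}
  {A : M₁.left.Modules} {B : M₂.left.Modules}

theorem fn_injective {R : Type u} [CommRing R] [Algebra k R] : Function.Injective (fn k : R →+* _) :=
  (fnR_bijective (k := k) (A := R)).1

theorem cl_iso {T : Over (Spec (CommRingCat.of k))} {E E' : (PicF.XT (st k X) T).Modules} (h : Nonempty (E ≅ E'))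
    (hE : BunMod.ussOK (st k X) r 0 T E) (hE' : BunMod.ussOK (st k X) r 0 T E') : cl φ₁ E hE = cl φ₁ E' hE' :=
  φ₁.resp E E' trivial _ _ (K824.Det.r_of_iso _ h)

theorem cl_pull {R R' : Type u} [CommRing R] [Algebra k R] [CommRing R'] [Algebra k R'] (ρ : R →ₐ[k] R')
    {E : (PicF.XT (st k X) (SpA k R)).Modules} (hE : BunMod.ussOK (st k X) r 0 (SpA k R) E)
    (hE' : BunMod.ussOK (st k X) r 0 (SpA k R') (pl k X (mA ρ) E)) :
    cl φ₁ (pl k X (mA ρ) E) hE' = mapA ρ ≫ cl φ₁ E hE :=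
  φ₁.natural (mA ρ) E trivial trivial ⟨trivial, hE⟩ ⟨trivial, hE'⟩

/-- Values at pulled back families. -/
theorem val_pull {R R' : Type u} [CommRing R] [Algebra k R] [CommRing R'] [Algebra k R'] (ρ : R →ₐ[k] R')
    {E : (PicF.XT (st k X) (SpA k R)).Modules} {E' : (PicF.XT (st k X) (SpA k R')).Modules}
    (hE : BunMod.ussOK (st k X) r 0 (SpA k R) E) (hE' : BunMod.ussOK (st k X) r 0 (SpA k R') E')
    (hi : Nonempty (E' ≅ pl k X (mA ρ) E)) {v : H0 M₁ A →ₗ[k] R} (hv : IsVal A (cl φ₁ E hE) v) :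
    IsVal A (cl φ₁ E' hE') (ρ.toLinearMap ∘ₗ v) := by
  have h1 : BunMod.ussOK (st k X) r 0 (SpA k R') (pl k X (mA ρ) E) := K562.OkPull.ussOK_pull _ _ hE
  exact (hv.comp ρ).congr ((cl_pull ρ hE h1).symm.trans (cl_iso hi hE' h1).symm)

section est

variable (e) in
/-- **The local estimate** for a seed. -/
theorem est (hREG : REG (k := k) e N r m) {T : H0 M₁ A ⊗[k] H0 M₂ B} (hTSub : TSub e N φ₁ φ₂ A B T)
    (hA : PicF.IsInvertible A) (hB : PicF.IsInvertible B) (E : Type u) [Field E] [Algebra (KK k M) E] [Algebra k E]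
    [IsScalarTower k (KK k M) E] (s : SubFam k e E (crd k M E) N r m) (φ : H0 M₁ A →ₗ[k] E) (ψ : H0 M₂ B →ₗ[k] E)
    (hφ : IsVal A (cl φ₁ s.E s.okE) φ) (hψ : IsVal B (cl φ₂ s.F s.okF) ψ) (hT : pr φ ψ T ≠ 0)
    (x : H0 M₁ A) (y : H0 M₂ B) : Est k M E (φ x * ψ y / pr φ ψ T) := by
  intro Ω _ _ a b hg e₀ τ Φ he hτ hC hX n hn
  have hΩ := hg.isAlgClosed
  -- the algebra homomorphism
  let Φ' : E →ₐ[k] LaurentSeries Ω :=
    { Φ with
      commutes' := fun z => by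
        show Φ (algebraMap k E z) = algebraMap k (LaurentSeries Ω) z
        have h0 : algebraMap k (LaurentSeries Ω) z = HahnSeries.ofPowerSeries ℤ Ω (algebraMap k (PowerSeries Ω) z) := rfl
        rw [IsScalarTower.algebraMap_apply k (KK k M) E, hC, h0, PowerSeries.algebraMap_apply]
        exact (HahnSeries.ofPowerSeries_C (Γ := ℤ) (R := Ω) _).symm }
  obtain ⟨c', s', hiE, hiF, hθ⟩ := hREG Ω a b hg E (crd k M E) e₀ τ Φ' he hτ hX s
  obtain ⟨φ', hφ'⟩ := exists_val (k := k) (R := PowerSeries Ω) hA (cl φ₁ s'.E s'.okE)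
  obtain ⟨ψ', hψ'⟩ := exists_val (k := k) (R := PowerSeries Ω) hB (cl φ₂ s'.F s'.okF)
  have okE : BunMod.ussOK (st k X) r 0 (SpA k (LaurentSeries Ω)) (pl k X (mA Φ') s.E) :=
    K562.OkPull.ussOK_pull _ _ s.okE
  have okF : BunMod.ussOK (st k X) m 0 (SpA k (LaurentSeries Ω)) (pl k X (mA Φ') s.F) :=
    K562.OkPull.ussOK_pull _ _ s.okF
  have h1 : IsVal A (cl φ₁ (pl k X (mA Φ') s.E) okE) (Φ'.toLinearMap ∘ₗ φ) := val_pull Φ' s.okE okE ⟨Iso.refl _⟩ hφ
  have h2 : IsVal B (cl φ₂ (pl k X (mA Φ') s.F) okF) (Φ'.toLinearMap ∘ₗ ψ) := val_pull Φ' s.okF okF ⟨Iso.refl _⟩ hψ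
  have h3 : IsVal A (cl φ₁ (pl k X (mA Φ') s.E) okE) ((io k Ω).toLinearMap ∘ₗ φ') :=
    val_pull (io k Ω) s'.okE okE (hiE.map Iso.symm) hφ'
  have h4 : IsVal B (cl φ₂ (pl k X (mA Φ') s.F) okF) ((io k Ω).toLinearMap ∘ₗ ψ') :=
    val_pull (io k Ω) s'.okF okF (hiF.map Iso.symm) hψ'
  obtain ⟨u, hu⟩ := h3.unique h1
  obtain ⟨v, hv⟩ := h4.unique h2
  have h5 := hTSub (PowerSeries Ω) c' s' φ' ψ' hφ' hψ'
  rw [h5, Ideal.mem_span_singleton] at hθ
  have h6 : prA φ' ψ' T ∣ (PowerSeries.X : PowerSeries Ω) ^ (e₀ - 1) := by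
    obtain ⟨w, hw⟩ := hθ
    obtain ⟨w', rfl⟩ := (fnR_bijective (k := k) (A := PowerSeries Ω)).2 w
    refine ⟨w', fn_injective (k := k) ?_⟩
    rw [map_mul]
    exact hw
  exact Local.coeff_of_local φ ψ T e₀ he Φ φ' ψ' (u : LaurentSeries Ω) (v : LaurentSeries Ω) (fun x => hu x)
    (fun y => hv y) hT h6 x y n hn

end est

variable (e) in
/-- **Assembly.** -/
theorem finrank_le [CharZero k] (hREG : REG (k := k) e N r m) (hVAN : VAN (k := k) e N r m) (hSEED : SEED e N φ₁ m)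
    {T : H0 M₁ A ⊗[k] H0 M₂ B} (hTMix : TMix N φ₁ φ₂ A B T) (hTSub : TSub e N φ₁ φ₂ A B T)
    (hA : PicF.IsInvertible A) (hB : PicF.IsInvertible B) [IsReduced M₁.left]
    [FiniteDimensional k (H0 M₁ A)] [FiniteDimensional k (H0 M₂ B)] :
    Module.finrank k (H0 M₁ A) ≤ Module.finrank k (H0 M₂ B) := by
  classical
  have hK0 : CharZero (KK k M) := charZero_of_injective_algebraMap (algebraMap k (KK k M)).injective
  -- the class of kernels of values at seeds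
  let P : Submodule k (H0 M₁ A) → Prop := fun S => ∃ (L : Type u) (_ : Field L) (_ : Algebra k L)
    (_ : Algebra (KK k M) L) (_ : IsScalarTower k (KK k M) L) (_ : FiniteDimensional (KK k M) L)
    (s : SubFam k e L (crd k M L) N r m) (v : H0 M₁ A →ₗ[k] L),
      thetaIdeal k N (SpA k L) (CohB1.tensorMod s.E s.F) = ⊤ ∧ IsVal A (cl φ₁ s.E s.okE) v ∧ S = LinearMap.ker v
  have hP : ∀ x : H0 M₁ A, x ≠ 0 → ∃ S, P S ∧ x ∉ S := by
    intro x hx
    have hne : ((CohB1.genLocus A (Groth.Agent.Fdesc.LocGen.homOf (toSec x)) : M₁.left.Opens) : Set M₁.left).Nonempty := by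
      rw [Set.nonempty_iff_ne_empty]
      intro h0
      have h3 : CohB1.genLocus A (Groth.Agent.Fdesc.LocGen.homOf (toSec x)) = ⊥ := TopologicalSpace.Opens.ext h0
      have h4 := K518.Sec.eq_zero_of_genLocus_eq_bot hA _ h3
      have h5 : Groth.Agent.Fdesc.LocGen.sec (Groth.Agent.Fdesc.LocGen.homOf (toSec x)) ⊤ =
          Groth.Agent.Fdesc.LocGen.sec (Groth.Agent.Fdesc.LocGen.homOf (0 : Γ(A, ⊤))) ⊤ := by
        rw [h4, K429.ThetaSec.homOf_zero]
      rw [Groth.Agent.Fdesc.LocGen.sec_homOf, Groth.Agent.Fdesc.LocGen.res_refl,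
        Groth.Agent.Fdesc.LocGen.sec_homOf, Groth.Agent.Fdesc.LocGen.res_refl] at h5
      exact hx (toSec.injective (h5.trans (map_zero toSec).symm))
    obtain ⟨L, i1, i2, i3, i4, i5, s, hs, hD⟩ := hSEED _ hne
    obtain ⟨v, hv⟩ := exists_val (k := k) (R := L) hA (cl φ₁ s.E s.okE)
    exact ⟨LinearMap.ker v, ⟨L, i1, i2, i3, i4, i5, s, v, hs, hv, rfl⟩, fun h0 => (hv.ne_zero_iff hA x).2 hD h0⟩
  obtain ⟨n, S, hS, hinf⟩ := AsmAlg.exists_finite_inf P hP
  choose L iF ik iK iT ifd s v hs hv hSv using hS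
  obtain ⟨E, _, _, _, _, hτ⟩ := AsmAlg.exists_galois (KK k M) L
  let _ : Algebra k E := ((algebraMap (KK k M) E).comp (algebraMap k (KK k M))).toAlgebra
  have iTE : IsScalarTower k (KK k M) E := IsScalarTower.of_algebraMap_eq fun _ => rfl
  let τ : ∀ i, L i →ₐ[k] E := fun i => (hτ i).some.restrictScalars k
  have hc : ∀ i j, crd k M E j = τ i (crd k M (L i) j) := fun i j => ((hτ i).some.commutes _).symm
  -- the seeds over `E`
  let s' : ∀ i, SubFam k e E (crd k M E) N r m := fun i => (s i).pull (τ i) (crd k M E) (hc i)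
  have hw : ∀ i, ∃ w : H0 M₂ B →ₗ[k] L i, IsVal B (cl φ₂ (s i).F (s i).okF) w := fun i =>
    exists_val (k := k) (R := L i) hB _
  choose w hw using hw
  let φ : Fin n → H0 M₁ A →ₗ[k] E := fun i => (τ i).toLinearMap ∘ₗ v i
  let ψ : Fin n → H0 M₂ B →ₗ[k] E := fun i => (τ i).toLinearMap ∘ₗ w i
  have hφ : ∀ i, IsVal A (cl φ₁ (s' i).E (s' i).okE) (φ i) := fun i =>
    val_pull (τ i) (s i).okE (s' i).okE ⟨Iso.refl _⟩ (hv i)
  have hψ : ∀ i, IsVal B (cl φ₂ (s' i).F (s' i).okF) (ψ i) := fun i =>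
    val_pull (τ i) (s i).okF (s' i).okF ⟨Iso.refl _⟩ (hw i)
  have hT : ∀ i, pr (φ i) (ψ i) T ≠ 0 := by
    intro i h0
    have h1 : pr (φ i) (ψ i) T = τ i (pr (v i) (w i) T) :=
      map_pr (τ i) (v i) (w i) (φ i) (ψ i) (fun _ => rfl) (fun _ => rfl) T
    rw [h1, map_eq_zero] at h0
    have h2 := hTSub (L i) (crd k M (L i)) (s i) (v i) (w i) (hv i) (hw i)
    rw [thT, hs i, prA_eq, h0, map_zero] at h2
    have h3 : (⊤ : Ideal Γ((SpA k (L i)).left, ⊤)) = Ideal.span {0} := h2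
    rw [Ideal.span_singleton_eq_bot.2 rfl] at h3
    have h4 : (1 : Γ((SpA k (L i)).left, ⊤)) = 0 := by
      have : (1 : Γ((SpA k (L i)).left, ⊤)) ∈ (⊥ : Ideal Γ((SpA k (L i)).left, ⊤)) := h3 ▸ trivial
      exact (Submodule.mem_bot _).1 this
    exact one_ne_zero (fn_injective (k := k) (R := L i) (by rw [map_one, map_zero]; exact h4))
  refine Interp.finrank_le (K := KK k M) φ ψ T hT ?_ ?_ ?_
  · -- dichotomy
    intro i j σ
    let t : SubFam k e E (crd k M E) N r m :=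
      (s' i).pull (σ.toAlgHom.restrictScalars k) (crd k M E) fun l => (σ.commutes _).symm
    have h1 : IsVal B (cl φ₂ t.F t.okF) (conj σ (ψ i)) :=
      val_pull (σ.toAlgHom.restrictScalars k) (s' i).okF t.okF ⟨Iso.refl _⟩ (hψ i)
    have h2 : IsVal A (cl φ₁ t.E t.okE) (conj σ (φ i)) :=
      val_pull (σ.toAlgHom.restrictScalars k) (s' i).okE t.okE ⟨Iso.refl _⟩ (hφ i)
    by_cases h0 : (s' j).i ≫ t.p = 0
    · right
      obtain ⟨u, hu⟩ := (h2.congr (cl_iso ((hVAN E _ (s' j) t).2 h0) (s' j).okE t.okE).symm).unique (hφ j)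
      exact ⟨u, hu⟩
    · left
      exact hTMix E _ _ (s' j).okE t.okF _ _ (hφ j) h1 ((hVAN E _ (s' j) t).1 h0)
  · -- separation
    intro x hx
    have h1 : x ∈ ⨅ i, S i := by
      rw [Submodule.mem_iInf]
      intro i
      rw [hSv i, LinearMap.mem_ker]
      have h2 : τ i (v i x) = 0 := hx i
      exact (map_eq_zero (τ i)).1 h2
    rw [hinf] at h1
    simpa using h1
  · -- constants
    intro i x y
    exact exists_const_trace E _ (est e hREG hTSub hA hB E (s' i) (φ i) (ψ i) (hφ i) (hψ i) (hT i) x y)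

end K536.Asm
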