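import Groth.Agent.BunMod.K536.Asm
import Groth.Agent.BunMod.K479.SdT2
import Groth.Agent.BunMod.K242.DetSub
import Groth.Agent.BunMod.K242.ThetaCst
import Groth.Agent.BunMod.K885.SdVan
import Groth.Agent.BunMod.K171.Top
import Groth.Agent.BunMod.K276.Data
import Groth.Agent.BunMod.K706.Pair0
import Groth.Agent.BunMod.K360.Zeta
import Groth.Agent.S0002
import Groth.Agent.PerfA.CohSerre
import Groth.Agent.Ega2.QCohLocal
import Groth.Agent.S11828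

/-!
# S16926: the inequality of numerical strange duality from `REG` and `SEED`
-/

set_option autoImplicit false
universe u

open CategoryTheory CategoryTheory.Limits AlgebraicGeometry TopologicalSpace MonoidalCategory CartesianMonoidalCategory
  MonObj
open scoped TensorProduct

namespace K536.Ineq

open K140.BM K824.Join K890.KS K890.Seed K536.Asm K536.Interp K536.Local K451.DetPic K757.DetM0 Groth.Agent.Grpsch
  Groth.Agent.Grpsch.PicGrp
open K429.Val hiding SpA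

section det

variable {k : Type u} [Field k] {X : Scheme.{u}} [X.Over (Spec (CommRingCat.of k))]
  [IsProper (X ↘ Spec (CommRingCat.of k))] [Smooth (X ↘ Spec (CommRingCat.of k))]
  [GeometricallyConnected (X ↘ Spec (CommRingCat.of k))] (hdim : topologicalKrullDim ↥X = 1)
  {J : Over (B0 k)} [GrpObj J] {ψ : (ModFun.PicDeg (st k X) 0).Hom ⊤ J} (hJ : Jac.IsJacobian (st k X) ⊤ J ψ)
  {r m : ℕ} {M₁ M₂ : Over (B0 k)} {φ₁ : (BunMod.USS (st k X) r 0).Hom ⊤ M₁} {φ₂ : (BunMod.USS (st k X) m 0).Hom ⊤ M₂}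
  {d₁ : M₁ ⟶ J} (hd₁ : BunMod.IsDetMap (st k X) (BunMod.ussOK (st k X) r 0) φ₁ 0 ψ d₁)
  {d₂ : M₂ ⟶ J} (hd₂ : BunMod.IsDetMap (st k X) (BunMod.ussOK (st k X) m 0) φ₂ 0 ψ d₂)

include hdim hJ hd₁ hd₂

/-- The line bundle `det F ⊗ (det E)⁻¹`. -/
theorem exists_D {T : Over (B0 k)} {E F : (PicF.XT (st k X) T).Modules} (hE : (BunMod.USS (st k X) r 0).ok T E)
    (hF : (BunMod.USS (st k X) m 0).ok T F) :
    ∃ (D : (PicF.XT (st k X) T).Modules) (hD : (ModFun.PicDeg (st k X) 0).ok T D),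
      ψ.app T D trivial hD = (φ₁.app T E trivial hE ≫ d₁)⁻¹ * (φ₂.app T F trivial hF ≫ d₂) := by
  obtain ⟨D₁, hD₁i, hD₁⟩ := exists_det hE.2.1
  obtain ⟨D₂, hD₂i, hD₂⟩ := exists_det hF.2.1
  have hok₁ := picDeg_det hdim hE.2 hD₁
  have hok₂ := picDeg_det hdim hF.2 hD₂
  have hinv : PicF.IsInvertible (RefHull.dual D₁) := K476.HomSh6.isInvertible_dual hD₁i
  have hne : Nonempty (CohB1.tensorMod D₁ (RefHull.dual D₁) ≅ Coh.structureModule (PicF.XT (st k X) T)) :=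
    K476.HomSh6.nonempty_tensor_dual hD₁i
  have hok₃ : (ModFun.PicDeg (st k X) 0).ok T (RefHull.dual D₁) := by
    have := K757.Geo.picDeg_inv hdim hok₁ hinv hne
    rwa [neg_zero] at this
  refine ⟨_, K319.Teq.picDeg_tensor hdim hok₃ hok₂, ?_⟩
  rw [dm_eq hd₁ hE hD₁ hok₁, dm_eq hd₂ hF hD₂ hok₂, K319.Teq.app_tensorJ hdim hJ hok₃ hok₂]
  congr 1
  refine eq_inv_of_mul_eq_one_right ?_
  rw [← K319.Teq.app_tensorJ hdim hJ hok₁ hok₃]
  exact (K319.Sect.app_congrJ ψ hne _ (K319.SumFam.picDeg_structure T)).trans (K319.Teq.app_one hJ T)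

end det

/-- A line bundle `ζ` of degree zero with `H¹(ζ ⊗ N) = 0`. -/
theorem exists_zeta (k : Type u) [Field k] [IsAlgClosed k] [CharZero k]
    (X : Scheme.{u}) [X.Over (Spec (CommRingCat.of k))]
    [IsProper (X ↘ Spec (CommRingCat.of k))] [Smooth (X ↘ Spec (CommRingCat.of k))]
    [GeometricallyConnected (X ↘ Spec (CommRingCat.of k))] (hdim : topologicalKrullDim ↥X = 1)
    (g : ℕ) (hg : Curv2.genus k X = g) (N : X.Modules) (hN : PicF.IsInvertible N)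
    (hNdeg : Curv2.deg k X N 1 = (g : ℤ) - 1) :
    ∃ ζ : X.Modules, PicF.IsInvertible ζ ∧ Curv2.deg k X ζ 1 = 0 ∧
      Subsingleton (Coh.HH X (CohB1.tensorMod ζ N) 1) := by
  have hX : IsIntegral X := K533.CurveBasic.isIntegral (X ↘ Spec (CommRingCat.of k))
  obtain ⟨L, hL, hLd, hL1⟩ := Groth.Agent.S11828.result k X hdim
  have hN' : PicF.IsInvertible (RefHull.dual N) := K476.HomSh6.isInvertible_dual hN
  obtain ⟨e⟩ : Nonempty (CohB1.tensorMod N (RefHull.dual N) ≅ Coh.structureModule X) :=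
    K476.HomSh6.nonempty_tensor_dual hN
  have cC : K707.Base.Crv k X := K707.Base.Crv.of_smooth hdim
  refine ⟨CohB1.tensorMod L (RefHull.dual N), Groth.Agent.Fdesc.LocGen.isInvertible_tensorMod hL hN', ?_, ?_⟩
  · rw [K706.Xi.deg_tw1 cC hL hN', K706.Xi.deg_inv cC hN hN' ⟨e⟩, hLd, hNdeg, hg]
    ring
  · have e2 : Nonempty (L ≅ CohB1.tensorMod (CohB1.tensorMod L (RefHull.dual N)) N) := by
      rw [← mk_eq_iff hL (Groth.Agent.Fdesc.LocGen.isInvertible_tensorMod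
        (Groth.Agent.Fdesc.LocGen.isInvertible_tensorMod hL hN') hN),
        ← mk_mul_mk (Groth.Agent.Fdesc.LocGen.isInvertible_tensorMod hL hN') hN, ← mk_mul_mk hL hN', _root_.mul_assoc,
        _root_.mul_comm (mk _ hN'), mk_mul_mk hN hN']
      have h1 : mk (CohB1.tensorMod N (RefHull.dual N)) (Groth.Agent.Fdesc.LocGen.isInvertible_tensorMod hN hN') = 1 :=
        (mk_eq_iff _ _).2 ⟨e⟩
      rw [h1, _root_.mul_one]
    obtain ⟨e2⟩ := e2
    exact Groth.Agent.Flat2D.LocalGlobalH.subsingleton_HH_of_iso e2 1 hL1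

/-- **The inequality** from `REG` and `SEED`. -/
theorem ineq (k : Type u) [Field k] [IsAlgClosed k] [CharZero k]
    (X : Scheme.{u}) [X.Over (Spec (CommRingCat.of k))]
    [IsProper (X ↘ Spec (CommRingCat.of k))] [Smooth (X ↘ Spec (CommRingCat.of k))]
    [GeometricallyConnected (X ↘ Spec (CommRingCat.of k))] (hdim : topologicalKrullDim ↥X = 1)
    (g : ℕ) (hg : Curv2.genus k X = g) (hg1 : 1 ≤ g)
    (r m : ℕ) (hr : 1 ≤ r) (hm : 1 ≤ m) (N : X.Modules) (hN : PicF.IsInvertible N)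
    (hNdeg : Curv2.deg k X N 1 = (g : ℤ) - 1)
    (hNth : Nonempty (CohB1.tensorMod N N ≅ Omega.sheaf (X ↘ Spec (CommRingCat.of k))))
    (J : Over (Spec (CommRingCat.of k))) [GrpObj J] [IsCommMonObj J]
    (ψ : (ModFun.PicDeg (X ↘ Spec (CommRingCat.of k)) 0).Hom ⊤ J)
    (hJ : Jac.IsJacobian (X ↘ Spec (CommRingCat.of k)) ⊤ J ψ)
    (ΘJ : J.left.Modules) (hΘJ : Jac.IsThetaLB (X ↘ Spec (CommRingCat.of k)) 0 ψ N ΘJ)
    (M₁ : Over (Spec (CommRingCat.of k))) (φ₁ : (BunMod.USS (X ↘ Spec (CommRingCat.of k)) r 0).Hom ⊤ M₁)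
    (hM₁ : BunMod.IsModSS (X ↘ Spec (CommRingCat.of k)) ⊤ r 0 M₁ φ₁)
    (Θ₁ : M₁.left.Modules) (hΘ₁ : BunMod.IsThetaLB (X ↘ Spec (CommRingCat.of k))
      (BunMod.ussOK (X ↘ Spec (CommRingCat.of k)) r 0) φ₁ N Θ₁)
    (d₁ : M₁ ⟶ J) (hd₁ : BunMod.IsDetMap (X ↘ Spec (CommRingCat.of k))
      (BunMod.ussOK (X ↘ Spec (CommRingCat.of k)) r 0) φ₁ 0 ψ d₁)
    (M₂ : Over (Spec (CommRingCat.of k))) (φ₂ : (BunMod.USS (X ↘ Spec (CommRingCat.of k)) m 0).Hom ⊤ M₂)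
    (hM₂ : BunMod.IsModSS (X ↘ Spec (CommRingCat.of k)) ⊤ m 0 M₂ φ₂)
    (Θ₂ : M₂.left.Modules) (hΘ₂ : BunMod.IsThetaLB (X ↘ Spec (CommRingCat.of k))
      (BunMod.ussOK (X ↘ Spec (CommRingCat.of k)) m 0) φ₂ N Θ₂)
    (d₂ : M₂ ⟶ J) (hd₂ : BunMod.IsDetMap (X ↘ Spec (CommRingCat.of k))
      (BunMod.ussOK (X ↘ Spec (CommRingCat.of k)) m 0) φ₂ 0 ψ d₂)
    (t₁ : K319.Main.IsTheta φ₁ N) (t₂ : K319.Main.IsTheta φ₂ N) (hTM : K479.SdT.ThetaAt k X N (m * r))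
    (hC : ∀ D₀ : X.Modules, PicF.IsInvertible D₀ → Curv2.deg k X D₀ 1 = m * ((g : ℤ) - 1) →
      ∃ C : K276.Data k X r m N D₀, REG (k := k) C.e N r m ∧ SEED C.e N φ₁ m) :
    K171.Top.Ineq r m ΘJ Θ₁ d₁ Θ₂ d₂ := by
  have hX : IsIntegral X := K533.CurveBasic.isIntegral (X ↘ Spec (CommRingCat.of k))
  have cC : K707.Base.Crv k X := K707.Base.Crv.of_smooth hdim
  obtain ⟨ζ, hζ, hζd, hζ1⟩ := exists_zeta k X hdim g hg N hN hNdeg
  have hNm : PicF.IsInvertible (CohB1.tensorPow N m) := Groth.Agent.Fdesc.LocGen.isInvertible_tensorPow hN m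
  have hD₀ : PicF.IsInvertible (CohB1.tensorMod ζ (CohB1.tensorPow N m)) :=
    Groth.Agent.Fdesc.LocGen.isInvertible_tensorMod hζ hNm
  obtain ⟨C, hREG, hSEED⟩ := hC _ hD₀ (by
    rw [K706.Xi.deg_tw1 cC hζ hNm, K706.Pair0.deg_pow cC hN, hζd, hNdeg, zero_add])
  obtain ⟨T, hT⟩ := K479.SdT.exists_T_row k X hdim g hg hg1 r m hr hm N hN hNdeg hNth J ψ hJ ΘJ hΘJ M₁ φ₁ hM₁ Θ₁ hΘ₁
    d₁ hd₁ M₂ φ₂ hM₂ Θ₂ hΘ₂ d₂ hd₂ t₁ t₂ hTM
  -- geometry of the moduli spaces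
  obtain ⟨A₁⟩ := K140.BM.exists_atlasC (X := X) (k := k) hdim hr
  obtain ⟨A₂⟩ := K140.BM.exists_atlasC (X := X) (k := k) hdim hm
  have I₁ := K319.Fin.inp hdim hJ hr hM₁ hd₁ A₁ t₁
  have I₂ := K319.Fin.inp hdim hJ hm hM₂ hd₂ A₂ t₂
  have := I₁.proper
  have := I₂.proper
  have := I₁.geomInt
  have hint : IsIntegral M₁.left := GeometricallyIntegral.isIntegral_of_subsingleton M₁.hom
  have hA : PicF.IsInvertible (CohB1.tensorMod (CohB1.tensorPow Θ₁ m) ((Scheme.Modules.pullback d₁.left).obj ΘJ)) :=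
    Groth.Agent.Fdesc.LocGen.isInvertible_tensorMod (Groth.Agent.Fdesc.LocGen.isInvertible_tensorPow hΘ₁.1 m)
      (Groth.Agent.Fdesc.LocGen.isInvertible_pullback _ hΘJ.1)
  have hB : PicF.IsInvertible (CohB1.tensorMod (CohB1.tensorPow Θ₂ r) ((Scheme.Modules.pullback d₂.left).obj ΘJ)) :=
    Groth.Agent.Fdesc.LocGen.isInvertible_tensorMod (Groth.Agent.Fdesc.LocGen.isInvertible_tensorPow hΘ₂.1 r)
      (Groth.Agent.Fdesc.LocGen.isInvertible_pullback _ hΘJ.1)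
  have fin : ∀ (M : Over (Spec (CommRingCat.of k))) (A : M.left.Modules), IsProper M.hom → PicF.IsInvertible A →
      FiniteDimensional k (H0 M A) := by
    intro M A h1 h2
    let _ : M.left.Over (Spec (CommRingCat.of k)) := ⟨M.hom⟩
    have : IsProper (M.left ↘ Spec (CommRingCat.of k)) := h1
    have : IsNoetherian M.left := K703.Basic.isNoetherian k M.left
    have hcoh : Coh.IsCoh A := Groth.Agent.PerfA.CohSerre.isCoh_of_isFinLocFree
      (Groth.Agent.Ega2.QCohLocal.isFinLocFree_of_rank (Groth.Agent.Ega2.QCohLocal.isFinLocFreeOfRank_one_iff.mpr h2))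
    exact Groth.Agent.S0002.result k M.left A hcoh 0
  have f1 := fin M₁ _ I₁.proper hA
  have f2 := fin M₂ _ I₂.proper hB
  refine finrank_le (φ₂ := φ₂) C.e hREG ?_ hSEED (T := T) ?_ ?_ hA hB
  · -- VAN
    intro L _ _ c s t
    exact ⟨fun h => K885.SdVan.thetaIdeal_eq_bot hdim s t hg hN hNdeg h,
      fun h => (K885.SdVan.iso_of_zero hdim s t hN h).1⟩
  · -- mixed pairs
    intro L _ _ E F hE hF v w hv hw h0
    obtain ⟨D, hD, hD'⟩ := exists_D hdim hJ hd₁ hd₂ (T := K890.KS.SpA k L) (E := E) (F := F) ⟨trivial, hE⟩ ⟨trivial, hF⟩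
    have h1 := hT ⟨trivial, hE⟩ ⟨trivial, hF⟩ hD hD' hv hw
    exact K360.Zeta.eq_zero_of_eq_bot h0 h1
  · -- subbundles
    intro R _ _ _ c s v w hv hw
    obtain ⟨D, hDG, hKD⟩ := C.det
    have hok : (ModFun.PicDeg (st k X) 0).ok (K890.KS.SpA k R) (cst k (K890.KS.SpA k R) ζ) :=
      K757.SubDet.picDeg_cst (f := st k X) hdim hζ hζd _
    have h1 := K242.DetSub.app_eq hdim hJ hd₁ hd₂ hN (K451.DetPic.rank_one_iff.1 C.hK) C.hG hDG hKD hζ ⟨Iso.refl _⟩ s hok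
    have h2 := hT ⟨trivial, s.okE⟩ ⟨trivial, s.okF⟩ hok h1.symm hv hw
    have h3 : thetaIdeal k N (K890.KS.SpA k R) (cst k (K890.KS.SpA k R) ζ) = ⊤ :=
      K242.ThetaCst.thetaIdeal_eq_top hdim.le
        (Groth.Agent.Ega2.QCohLocal.isFinLocFree_of_rank (Groth.Agent.Ega2.QCohLocal.isFinLocFreeOfRank_one_iff.mpr hN))
        (Groth.Agent.Ega2.QCohLocal.isFinLocFree_of_rank (Groth.Agent.Ega2.QCohLocal.isFinLocFreeOfRank_one_iff.mpr hζ))
        hζ1 _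
    rw [h3, Scheme.IdealSheafData.ideal_mul] at h2
    refine Eq.trans ?_ h2
    simp [thT]

end K536.Ineq
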