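import Mathlib

/-!
# Interpolation by traces

`H`, `H'` are vector spaces over `k`, `L / K` is a finite Galois extension (`k ⊆ K`), `T ∈ H ⊗ H'`.  Points are
pairs of `k`-linear functionals `φ : H → L`, `ψ : H' → L`.  If the traces `tr (φ a * ψ b / T(φ, ψ))` are constants
(in `k`) for a separating family of points which are orthogonal for `T` up to conjugation, then
`dim H ≤ dim H'`.
-/

set_option autoImplicit false

open TensorProduct

namespace K536.Interp

section pr

variable {k L H H' : Type*} [Field k] [Field L] [Algebra k L] [AddCommGroup H] [Module k H] [AddCommGroup H']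
  [Module k H']

/-- The functional `a ⊗ b ↦ φ a * ψ b`. -/
noncomputable def pr (φ : H →ₗ[k] L) (ψ : H' →ₗ[k] L) : H ⊗[k] H' →ₗ[k] L :=
  LinearMap.mul' k L ∘ₗ TensorProduct.map φ ψ

@[simp] theorem pr_tmul (φ : H →ₗ[k] L) (ψ : H' →ₗ[k] L) (a : H) (b : H') : pr φ ψ (a ⊗ₜ b) = φ a * ψ b := rfl

theorem pr_mul_left (φ φ' : H →ₗ[k] L) (ψ : H' →ₗ[k] L) (c : L) (h : ∀ a, φ' a = c * φ a) (T : H ⊗[k] H') :
    pr φ' ψ T = c * pr φ ψ T := by
  induction T with
  | zero => simp
  | tmul a b => simp [h, mul_assoc]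
  | add x y hx hy => simp [hx, hy, mul_add]

theorem pr_mul_right (φ : H →ₗ[k] L) (ψ ψ' : H' →ₗ[k] L) (c : L) (h : ∀ a, ψ' a = c * ψ a) (T : H ⊗[k] H') :
    pr φ ψ' T = c * pr φ ψ T := by
  induction T with
  | zero => simp
  | tmul a b => simp only [pr_tmul, h]; ring
  | add x y hx hy => simp [hx, hy, mul_add]

theorem map_pr {L' F : Type*} [Field L'] [Algebra k L'] [FunLike F L L'] [RingHomClass F L L'] (ρ : F)
    (φ : H →ₗ[k] L) (ψ : H' →ₗ[k] L) (φ' : H →ₗ[k] L') (ψ' : H' →ₗ[k] L') (hφ : ∀ a, φ' a = ρ (φ a))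
    (hψ : ∀ b, ψ' b = ρ (ψ b)) (T : H ⊗[k] H') : pr φ' ψ' T = ρ (pr φ ψ T) := by
  induction T with
  | zero => simp
  | tmul a b => simp [hφ, hψ]
  | add x y hx hy => simp [hx, hy]

/-- `T` as a sum over a basis of the second factor. -/
theorem exists_sum [FiniteDimensional k H'] {ι : Type*} [Fintype ι] (b : Module.Basis ι k H') (T : H ⊗[k] H') :
    ∃ a : ι → H, T = ∑ l, a l ⊗ₜ b l := by
  induction T with
  | zero => exact ⟨0, by simp⟩
  | tmul x y =>
    refine ⟨fun l => b.repr y l • x, ?_⟩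
    conv_lhs => rw [← b.sum_repr y, TensorProduct.tmul_sum]
    exact Finset.sum_congr rfl fun l _ => by rw [TensorProduct.tmul_smul, TensorProduct.smul_tmul']
  | add x y hx hy =>
    obtain ⟨a, ha⟩ := hx
    obtain ⟨a', ha'⟩ := hy
    exact ⟨a + a', by simp [ha, ha', TensorProduct.add_tmul, Finset.sum_add_distrib]⟩

end pr

/-- Conjugate functional. -/
noncomputable def conj {k K L H : Type*} [Field k] [Field K] [Field L] [Algebra k K] [Algebra K L] [Algebra k L]
    [IsScalarTower k K L] [AddCommGroup H] [Module k H] (σ : L ≃ₐ[K] L) (φ : H →ₗ[k] L) : H →ₗ[k] L :=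
  (σ.toLinearMap.restrictScalars k) ∘ₗ φ

variable {k K L H H' : Type*} [Field k] [Field K] [Field L] [Algebra k K] [Algebra K L] [Algebra k L]
  [IsScalarTower k K L] [AddCommGroup H] [Module k H] [AddCommGroup H'] [Module k H']

@[simp] theorem conj_apply (σ : L ≃ₐ[K] L) (φ : H →ₗ[k] L) (a : H) : conj σ φ a = σ (φ a) := rfl

theorem pr_conj (σ : L ≃ₐ[K] L) (φ : H →ₗ[k] L) (ψ : H' →ₗ[k] L) (T : H ⊗[k] H') :
    pr (conj σ φ) (conj σ ψ) T = σ (pr φ ψ T) :=
  map_pr σ φ ψ _ _ (fun _ => rfl) (fun _ => rfl) T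

/-- **Interpolation**: the inequality of dimensions. -/
theorem finrank_le [CharZero K] [FiniteDimensional K L] [IsGalois K L] [FiniteDimensional k H'] {ι : Type*} [Finite ι]
    (φ : ι → H →ₗ[k] L) (ψ : ι → H' →ₗ[k] L) (T : H ⊗[k] H') (hT : ∀ i, pr (φ i) (ψ i) T ≠ 0)
    (hdich : ∀ (i j : ι) (σ : L ≃ₐ[K] L), pr (φ j) (conj σ (ψ i)) T = 0 ∨ ∃ c : L, ∀ a, φ j a = c * σ (φ i a))
    (hsep : ∀ a, (∀ j, φ j a = 0) → a = 0)
    (hconst : ∀ i a b, ∃ z : k, Algebra.trace K L (φ i a * ψ i b / pr (φ i) (ψ i) T) = algebraMap k K z) :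
    Module.finrank k H ≤ Module.finrank k H' := by
  classical
  cases nonempty_fintype ι
  have : CharZero L := charZero_of_injective_algebraMap (algebraMap K L).injective
  let bs := Module.finBasis k H'
  obtain ⟨av, hav⟩ := exists_sum bs T
  choose z hz using hconst
  -- the conjugates
  have htr : ∀ i a b, algebraMap k L (z i a b) = ∑ σ : L ≃ₐ[K] L, σ (φ i a) * σ (ψ i b) / σ (pr (φ i) (ψ i) T) := by
    intro i a b
    rw [IsScalarTower.algebraMap_apply k K L, ← hz, trace_eq_sum_automorphisms]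
    refine Finset.sum_congr rfl fun σ _ => ?_
    rw [map_div₀, map_mul]
  -- evaluation of the interpolation sum at the points
  have key : ∀ i j a, ∃ m : ℕ, (i = j → m ≠ 0) ∧
      ∑ l, algebraMap k L (z i a (bs l)) * φ j (av l) = m * φ j a := by
    intro i j a
    refine ⟨(Finset.univ.filter fun σ : L ≃ₐ[K] L => pr (φ j) (conj σ (ψ i)) T ≠ 0).card, ?_, ?_⟩
    · rintro rfl
      apply Finset.card_ne_zero_of_mem (a := (1 : L ≃ₐ[K] L))
      simp only [ne_eq, Finset.mem_filter, Finset.mem_univ, true_and]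
      have h1 : conj (1 : L ≃ₐ[K] L) (ψ i) = ψ i := by ext; rfl
      rw [h1]
      exact hT i
    · have h1 : ∀ σ : L ≃ₐ[K] L, ∑ l, (σ (φ i a) * σ (ψ i (bs l)) / σ (pr (φ i) (ψ i) T)) * φ j (av l) =
          σ (φ i a) / σ (pr (φ i) (ψ i) T) * pr (φ j) (conj σ (ψ i)) T := by
        intro σ
        have h0 : pr (φ j) (conj σ (ψ i)) T = ∑ l, φ j (av l) * σ (ψ i (bs l)) := by
          conv_lhs => rw [hav]
          rw [map_sum]
          exact Finset.sum_congr rfl fun l _ => rfl
        rw [h0, Finset.mul_sum]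
        refine Finset.sum_congr rfl fun l _ => ?_
        ring
      have h2 : ∀ σ : L ≃ₐ[K] L, σ (φ i a) / σ (pr (φ i) (ψ i) T) * pr (φ j) (conj σ (ψ i)) T =
          if pr (φ j) (conj σ (ψ i)) T ≠ 0 then φ j a else 0 := by
        intro σ
        split_ifs with h
        · obtain h' | ⟨c, hc⟩ := hdich i j σ
          · exact absurd h' h
          · have h3 : pr (φ j) (conj σ (ψ i)) T = c * σ (pr (φ i) (ψ i) T) := by
              rw [pr_mul_left (conj σ (φ i)) (φ j) (conj σ (ψ i)) c hc T, pr_conj]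
            have h4 : σ (pr (φ i) (ψ i) T) ≠ 0 := by
              rw [Ne, map_eq_zero_iff σ σ.injective]
              exact hT i
            rw [h3, hc]
            field_simp
        · rw [not_not] at h
          rw [h, mul_zero]
      simp_rw [htr, Finset.sum_mul]
      rw [Finset.sum_comm]
      simp_rw [h1, h2]
      rw [Finset.sum_ite, Finset.sum_const_zero, add_zero, Finset.sum_const, nsmul_eq_mul]
  -- the linear map `H → (Fin n → k)`
  have hinj : ∀ i a a' l, z i (a + a') (bs l) = z i a (bs l) + z i a' (bs l) := by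
    intro i a a' l
    apply (algebraMap k K).injective
    rw [map_add, ← hz, ← hz, ← hz, ← map_add, map_add, add_mul, add_div]
  have hinj' : ∀ i (c : k) a l, z i (c • a) (bs l) = c * z i a (bs l) := by
    intro i c a l
    apply (algebraMap k K).injective
    rw [map_mul, ← hz, ← hz]
    have h1 : algebraMap k K c * Algebra.trace K L (φ i a * ψ i (bs l) / pr (φ i) (ψ i) T) =
        Algebra.trace K L (algebraMap k K c • (φ i a * ψ i (bs l) / pr (φ i) (ψ i) T)) := by
      rw [LinearMap.map_smul, smul_eq_mul]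
    rw [h1, (φ i).map_smul, Algebra.smul_def, Algebra.smul_def, ← IsScalarTower.algebraMap_apply]
    congr 1
    ring
  let F : H →ₗ[k] (Fin (Module.finrank k H') → k) :=
    { toFun := fun a l => ∑ i, z i a (bs l)
      map_add' := fun a a' => by
        funext l
        simp [hinj, Finset.sum_add_distrib]
      map_smul' := fun c a => by
        funext l
        simp [hinj', Finset.mul_sum] }
  have hF : Function.Injective F := by
    rw [← LinearMap.ker_eq_bot, LinearMap.ker_eq_bot']
    intro a ha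
    apply hsep
    intro j
    have h1 : ∑ i, ∑ l, algebraMap k L (z i a (bs l)) * φ j (av l) = 0 := by
      rw [Finset.sum_comm]
      apply Finset.sum_eq_zero
      intro l _
      rw [← Finset.sum_mul, ← map_sum]
      have h2 : ∑ i, z i a (bs l) = 0 := congrFun ha l
      rw [h2, map_zero, zero_mul]
    choose m hm hm' using key
    simp_rw [hm'] at h1
    rw [← Finset.sum_mul, ← Nat.cast_sum] at h1
    rcases mul_eq_zero.1 h1 with h2 | h2
    · exfalso
      rw [Nat.cast_eq_zero, Finset.sum_eq_zero_iff] at h2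
      exact hm j j a rfl (h2 j (Finset.mem_univ j))
    · exact h2
  have h1 := LinearMap.finrank_le_finrank_of_injective hF
  simpa using h1

end K536.Interp
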