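import Groth.Agent.BunMod.K536.Interp
import Mathlib

/-!
# The local form of the estimate

If the functionals `φ`, `ψ` become integral over `Ω⟦s⟧` after multiplication by nonzero constants, and the value of
`T` on the integral functionals divides `s ^ (e - 1)`, then `φ a * ψ b / T(φ, ψ)` has order `> -e`.
-/

set_option autoImplicit false

open TensorProduct

namespace K536.Local

open K536.Interp

/-- The value of `T` for functionals with values in a `k`-algebra. -/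
noncomputable def prA {k R H H' : Type*} [CommSemiring k] [CommSemiring R] [Algebra k R] [AddCommMonoid H] [Module k H]
    [AddCommMonoid H'] [Module k H'] (φ : H →ₗ[k] R) (ψ : H' →ₗ[k] R) : H ⊗[k] H' →ₗ[k] R :=
  LinearMap.mul' k R ∘ₗ TensorProduct.map φ ψ

@[simp] theorem prA_tmul {k R H H' : Type*} [CommSemiring k] [CommSemiring R] [Algebra k R] [AddCommMonoid H]
    [Module k H] [AddCommMonoid H'] [Module k H'] (φ : H →ₗ[k] R) (ψ : H' →ₗ[k] R) (a : H) (b : H') :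
    prA φ ψ (a ⊗ₜ b) = φ a * ψ b := rfl

theorem prA_eq {k L H H' : Type*} [Field k] [Field L] [Algebra k L] [AddCommGroup H] [Module k H] [AddCommGroup H']
    [Module k H'] (φ : H →ₗ[k] L) (ψ : H' →ₗ[k] L) : prA φ ψ = pr φ ψ := rfl

variable {k : Type*} [Field k] {L : Type*} [Field L] [Algebra k L] {H H' : Type*} [AddCommGroup H] [Module k H]
  [AddCommGroup H'] [Module k H'] {Ω : Type*} [Field Ω] [Algebra k Ω]

theorem exists_mul_eq (φ : H →ₗ[k] L) (ψ : H' →ₗ[k] L) (T : H ⊗[k] H') (e : ℕ) (Φ : L →+* LaurentSeries Ω)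
    (φ' : H →ₗ[k] PowerSeries Ω) (ψ' : H' →ₗ[k] PowerSeries Ω) (u v : LaurentSeries Ω)
    (hφ : ∀ a, Φ (φ a) = u * (φ' a : LaurentSeries Ω)) (hψ : ∀ b, Φ (ψ b) = v * (ψ' b : LaurentSeries Ω))
    (hT : pr φ ψ T ≠ 0) (hP : prA φ' ψ' T ∣ PowerSeries.X ^ (e - 1)) (a : H) (b : H') :
    ∃ q : PowerSeries Ω, Φ (φ a * ψ b / pr φ ψ T) * HahnSeries.single ((e - 1 : ℕ) : ℤ) 1 = (q : LaurentSeries Ω) := by
  have key : ∀ t : H ⊗[k] H', Φ (pr φ ψ t) = u * v * ((prA φ' ψ' t : PowerSeries Ω) : LaurentSeries Ω) := by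
    intro t
    induction t with
    | zero => simp
    | tmul x y =>
      simp only [pr_tmul, map_mul, hφ, hψ, prA_tmul]
      ring
    | add x y hx hy => simp only [map_add, hx, hy]; ring
  obtain ⟨w, hw⟩ := hP
  set P : PowerSeries Ω := prA φ' ψ' T with hPdef
  have hT' : Φ (pr φ ψ T) ≠ 0 := by
    rw [Ne, map_eq_zero]
    exact hT
  have huv : u * v ≠ 0 := fun h => hT' (by rw [key, h, zero_mul])
  have hP0 : (P : LaurentSeries Ω) ≠ 0 := fun h => hT' (by rw [key, ← hPdef, h, mul_zero])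
  refine ⟨φ' a * ψ' b * w, ?_⟩
  have h2 : (HahnSeries.single ((e - 1 : ℕ) : ℤ) 1 : LaurentSeries Ω) = (P : LaurentSeries Ω) * (w : LaurentSeries Ω) := by
    have h3 := congrArg (fun p : PowerSeries Ω => (p : LaurentSeries Ω)) hw
    simp only [PowerSeries.coe_pow, PowerSeries.coe_mul, PowerSeries.coe_X] at h3
    rw [← h3, HahnSeries.single_pow]
    simp
  have hu : u ≠ 0 := left_ne_zero_of_mul huv
  have hv : v ≠ 0 := right_ne_zero_of_mul huv
  rw [h2, map_div₀, key, ← hPdef, map_mul, hφ, hψ]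
  push_cast
  field_simp

/-- **The local form of the estimate.** -/
theorem coeff_of_local (φ : H →ₗ[k] L) (ψ : H' →ₗ[k] L) (T : H ⊗[k] H') (e : ℕ) (he : 0 < e)
    (Φ : L →+* LaurentSeries Ω) (φ' : H →ₗ[k] PowerSeries Ω) (ψ' : H' →ₗ[k] PowerSeries Ω) (u v : LaurentSeries Ω)
    (hφ : ∀ a, Φ (φ a) = u * (φ' a : LaurentSeries Ω)) (hψ : ∀ b, Φ (ψ b) = v * (ψ' b : LaurentSeries Ω))
    (hT : pr φ ψ T ≠ 0) (hP : prA φ' ψ' T ∣ PowerSeries.X ^ (e - 1)) (a : H) (b : H') (n : ℤ) (hn : n ≤ -(e : ℤ)) :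
    (Φ (φ a * ψ b / pr φ ψ T)).coeff n = 0 := by
  obtain ⟨q, hq⟩ := exists_mul_eq φ ψ T e Φ φ' ψ' u v hφ hψ hT hP a b
  have h1 : (Φ (φ a * ψ b / pr φ ψ T)).coeff n = (q : LaurentSeries Ω).coeff (n + ((e - 1 : ℕ) : ℤ)) := by
    rw [← hq, HahnSeries.coeff_mul_single_add, mul_one]
  rw [h1, PowerSeries.coeff_coe, if_pos]
  omega

end K536.Local
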