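import Groth.Agent.BunMod.K536.Ineq
import Groth.Agent.BunMod.K28.Rows
import Groth.Agent.BunMod.K356.ThetaFin

/-!
# The row S16926 from cokernel data with `REG` and `SEED`
-/

set_option autoImplicit false
universe u
open CategoryTheory CategoryTheory.Limits AlgebraicGeometry MonoidalCategory CartesianMonoidalCategory MonObj
open Groth.Agent BunMod

namespace K536.RowS

/-- **The row S16926, modulo `REG` and `SEED` for one cokernel datum for every determinant.** -/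
theorem row (k : Type u) [Field k] [IsAlgClosed k] [CharZero k]
    (X : Scheme.{u}) [X.Over (Spec (CommRingCat.of k))]
    [IsProper (X ↘ Spec (CommRingCat.of k))] [Smooth (X ↘ Spec (CommRingCat.of k))]
    [GeometricallyConnected (X ↘ Spec (CommRingCat.of k))] (hdim : topologicalKrullDim ↥X = 1)
    (g : ℕ) (hg : Curv2.genus k X = g) (hg2 : 2 ≤ g)
    (r m : ℕ) (hr : 2 ≤ r) (hm : 2 ≤ m) (N : X.Modules) (hN : PicF.IsInvertible N) (hNdeg : Curv2.deg k X N 1 = (g : ℤ) - 1)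
    (hNth : Nonempty (CohB1.tensorMod N N ≅ Omega.sheaf (X ↘ Spec (CommRingCat.of k))))
    (J : Over (Spec (CommRingCat.of k))) [GrpObj J] [IsCommMonObj J]
    (ψ : (ModFun.PicDeg (X ↘ Spec (CommRingCat.of k)) 0).Hom ⊤ J) (hJ : Jac.IsJacobian (X ↘ Spec (CommRingCat.of k)) ⊤ J ψ)
    (ΘJ : J.left.Modules) (hΘJ : Jac.IsThetaLB (X ↘ Spec (CommRingCat.of k)) 0 ψ N ΘJ)
    (φJ : AgPol.DualMap J J) (hsd : Jac.IsSelfDual Scheme.fppfPrecoverage J φJ ΘJ)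
    (P : (pullback J.hom J.hom).Modules) (hP : PicF.IsInvertible P) (hPP : AbDual.IsPoincareCl J J φJ (PicF.cl P))
    [HasInjectiveResolutions (pullback J.hom J.hom).Modules]
    (M₁ : Over (Spec (CommRingCat.of k))) (φ₁ : (BunMod.USS (X ↘ Spec (CommRingCat.of k)) r 0).Hom ⊤ M₁)
    (hM₁ : BunMod.IsModSS (X ↘ Spec (CommRingCat.of k)) ⊤ r 0 M₁ φ₁)
    (hne₁ : ∀ (Ω : Type u) [Field Ω] [IsAlgClosed Ω] (t : Spec (CommRingCat.of Ω) ⟶ Spec (CommRingCat.of k)),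
      Nonempty (Over.mk t ⟶ M₁))
    (Θ₁ : M₁.left.Modules) (hΘ₁ : BunMod.IsThetaLB (X ↘ Spec (CommRingCat.of k)) (BunMod.ussOK (X ↘ Spec (CommRingCat.of k)) r 0) φ₁ N Θ₁)
    (d₁ : M₁ ⟶ J) (hd₁ : BunMod.IsDetMap (X ↘ Spec (CommRingCat.of k)) (BunMod.ussOK (X ↘ Spec (CommRingCat.of k)) r 0) φ₁ 0 ψ d₁)
    (M₂ : Over (Spec (CommRingCat.of k))) (φ₂ : (BunMod.USS (X ↘ Spec (CommRingCat.of k)) m 0).Hom ⊤ M₂)
    (hM₂ : BunMod.IsModSS (X ↘ Spec (CommRingCat.of k)) ⊤ m 0 M₂ φ₂)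
    (hne₂ : ∀ (Ω : Type u) [Field Ω] [IsAlgClosed Ω] (t : Spec (CommRingCat.of Ω) ⟶ Spec (CommRingCat.of k)),
      Nonempty (Over.mk t ⟶ M₂))
    (Θ₂ : M₂.left.Modules) (hΘ₂ : BunMod.IsThetaLB (X ↘ Spec (CommRingCat.of k)) (BunMod.ussOK (X ↘ Spec (CommRingCat.of k)) m 0) φ₂ N Θ₂)
    (d₂ : M₂ ⟶ J) (hd₂ : BunMod.IsDetMap (X ↘ Spec (CommRingCat.of k)) (BunMod.ussOK (X ↘ Spec (CommRingCat.of k)) m 0) φ₂ 0 ψ d₂)
    (hC₁ : ∀ D₀ : X.Modules, PicF.IsInvertible D₀ → Curv2.deg k X D₀ 1 = m * ((g : ℤ) - 1) →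
      ∃ C : K276.Data k X r m N D₀, K536.Asm.REG (k := k) C.e N r m ∧ K536.Asm.SEED C.e N φ₁ m)
    (hC₂ : ∀ D₀ : X.Modules, PicF.IsInvertible D₀ → Curv2.deg k X D₀ 1 = r * ((g : ℤ) - 1) →
      ∃ C : K276.Data k X m r N D₀, K536.Asm.REG (k := k) C.e N m r ∧ K536.Asm.SEED C.e N φ₂ r) :
    Nonempty ((Scheme.Modules.pullback ((𝟙 J) ^ r : J ⟶ J).left).obj
        (RefHull.dual ((Scheme.Modules.pushforward d₁.left).obj (CohB1.tensorPow Θ₁ m))) ≅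
      (Scheme.Modules.pullback ((𝟙 J) ^ r : J ⟶ J).left).obj
        ((Coh.Rpush (pullback.snd J.hom J.hom) 0).obj
        (CohB1.tensorMod ((Scheme.Modules.pullback (pullback.fst J.hom J.hom)).obj ((Scheme.Modules.pushforward d₂.left).obj (CohB1.tensorPow Θ₂ r))) P))) := by
  have hg1 : 1 ≤ g := by omega
  have hr1 : 1 ≤ r := by omega
  have hm1 : 1 ≤ m := by omega
  have hg' : 2 ≤ Curv2.genus k X := by omega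
  have hNd : Curv2.deg k X N 1 = (Curv2.genus k X : ℤ) - 1 := by rw [hg]; exact hNdeg
  have hT : ∀ n : ℕ, 1 ≤ n → K479.SdT.ThetaAt k X N n := fun n hn M φ hM =>
    ⟨(Groth.Agent.BunMod.K356.ThetaFin.uss hdim hg' hN hNd hn hM).fam,
      (Groth.Agent.BunMod.K356.ThetaFin.uss hdim hg' hN hNd hn hM).eff⟩
  have t₁ : K319.Main.IsTheta φ₁ N := (hT r hr1 M₁ φ₁ hM₁.2.1).1
  have t₂ : K319.Main.IsTheta φ₂ N := (hT m hm1 M₂ φ₂ hM₂.2.1).1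
  have hs₁ := K28.Rows.exists_str k X hdim g hg hg2 r hr N hN hNdeg M₁ φ₁ hM₁ hne₁ Θ₁ hΘ₁ J ψ hJ ΘJ hΘJ d₁ hd₁
  have hs₂ := K28.Rows.exists_str k X hdim g hg hg2 m hm N hN hNdeg M₂ φ₂ hM₂ hne₂ Θ₂ hΘ₂ J ψ hJ ΘJ hΘJ d₂ hd₂
  exact K171.Top.row k X hdim g hg hg1 r m hr1 hm1 N hN hNdeg hNth J ψ hJ ΘJ hΘJ φJ hsd P hP hPP M₁ Θ₁ hΘ₁.1 d₁ hs₁
    M₂ Θ₂ hΘ₂.1 d₂ hs₂
    (K536.Ineq.ineq k X hdim g hg hg1 r m hr1 hm1 N hN hNdeg hNth J ψ hJ ΘJ hΘJ M₁ φ₁ hM₁ Θ₁ hΘ₁ d₁ hd₁ M₂ φ₂ hM₂ Θ₂ hΘ₂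
      d₂ hd₂ t₁ t₂ (hT _ (Nat.mul_pos hm1 hr1)) hC₁)
    (K536.Ineq.ineq k X hdim g hg hg1 m r hm1 hr1 N hN hNdeg hNth J ψ hJ ΘJ hΘJ M₂ φ₂ hM₂ Θ₂ hΘ₂ d₂ hd₂ M₁ φ₁ hM₁ Θ₁ hΘ₁
      d₁ hd₁ t₂ t₁ (hT _ (Nat.mul_pos hr1 hm1)) hC₂)

end K536.RowS
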