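import Groth.Agent.BunMod.K536.RowS
import Groth.Agent.BunMod.K506.SeedMain
import Groth.Agent.BunMod.K890.RegData
import Groth.Agent.BunMod.K276.Vers
import Groth.Agent.VBCurve.K704.Base

/-!
# The row S16926 from the existence of cokernel data and the surjectivity of Kodaira-Spencer
-/

set_option autoImplicit false
universe u
open CategoryTheory CategoryTheory.Limits AlgebraicGeometry MonoidalCategory CartesianMonoidalCategory MonObj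
open Groth.Agent BunMod

namespace K536.RowT

/-- **(COKD)** -/
def CokD (k : Type u) [Field k] (X : Scheme.{u}) [X.Over (Spec (CommRingCat.of k))] (g : ℕ) (N : X.Modules) : Prop :=
  ∀ r m : ℕ, 2 ≤ r → 2 ≤ m → ∀ D₀ : X.Modules, PicF.IsInvertible D₀ → Curv2.deg k X D₀ 1 = m * ((g : ℤ) - 1) →
    Nonempty (K276.Data k X r m N D₀)

/-- **(KS)** -/
def KSD (k : Type u) [Field k] (X : Scheme.{u}) [X.Over (Spec (CommRingCat.of k))] (N : X.Modules) : Prop :=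
  ∀ (r m : ℕ) (D₀ : X.Modules) (D : K276.Data k X r m N D₀),
    2 ≤ r → 2 ≤ m → ∀ (A : Type u) [CommRing A] [IsNoetherianRing A] [IsDomain A] [Algebra k A] (c : Fin D.M → A),
      FlatMod.IsFinLocFreeOfRank (r + m) (K890.KS.VA (k := k) D.e A c) → Mono (K890.KS.ueA (k := k) D.e A c) →
      Subsingleton (Coh.HH (PicF.XT (K140.BM.st k X) (K890.KS.SpA k A))
        (CohB1.tensorMod (K890.KS.VA (k := k) D.e A c) (K140.BM.cst k (K890.KS.SpA k A) D.G')) 1) →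
      K890.KS.KSMain (k := k) D.e A c

section

open K140.BM

variable (k : Type u) [Field k] [IsAlgClosed k] [CharZero k]
    (X : Scheme.{u}) [X.Over (Spec (CommRingCat.of k))]
    [IsProper (X ↘ Spec (CommRingCat.of k))] [Smooth (X ↘ Spec (CommRingCat.of k))]
    [GeometricallyConnected (X ↘ Spec (CommRingCat.of k))] (hdim : topologicalKrullDim ↥X = 1)

include hdim in
theorem reg_seed {g : ℕ} (hg : Curv2.genus k X = g) (hg2 : 2 ≤ g) {r m : ℕ} (hr : 2 ≤ r) (hm : 2 ≤ m) {N : X.Modules}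
    (hN : PicF.IsInvertible N) (hNdeg : Curv2.deg k X N 1 = (g : ℤ) - 1) (h₁ : CokD k X g N) (h₂ : KSD k X N)
    {M₁ : Over (B0 k)} (φ₁ : (BunMod.USS (st k X) r 0).Hom ⊤ M₁) (hM₁ : BunMod.IsModSS (st k X) ⊤ r 0 M₁ φ₁)
    [LocallyOfFiniteType M₁.hom] (D₀ : X.Modules) (hD₀ : PicF.IsInvertible D₀)
    (hD₀d : Curv2.deg k X D₀ 1 = m * ((g : ℤ) - 1)) :
    ∃ C : K276.Data k X r m N D₀, K536.Asm.REG (k := k) C.e N r m ∧ K536.Asm.SEED C.e N φ₁ m := by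
  have hX : IsIntegral X := K533.CurveBasic.isIntegral (X ↘ Spec (CommRingCat.of k))
  have hN' : Curv2.deg k X N 1 = (Curv2.genus k X : ℤ) - 1 := by rw [hg]; exact hNdeg
  have hG := Groth.Agent.BunMod.K356.ThetaFin.uss hdim (by omega) hN hN' (by omega : 1 ≤ r) hM₁.2.1
  obtain ⟨C⟩ := h₁ r m hr hm D₀ hD₀ hD₀d
  refine ⟨C, K890.RegData.reg_data hdim (by omega) (by omega) hg2 hN hNdeg ?_ hD₀ hD₀d C ?_ (h₂ r m D₀ C hr hm),
    K506.SeedMain.seed_of_data hdim hg hN hNdeg (by omega) hm hD₀ hD₀d C φ₁ hM₁ hG.fam hG.eff⟩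
  · rw [← hg]
    exact K704.Base.euler_structure k X hdim
  · intro Ω i1 i2 i3 c hc
    exact K276.Vers.vp_data hdim C c hc

end

/-- **The row S16926, modulo the existence of cokernel data and the surjectivity of Kodaira-Spencer.** -/
theorem row (k : Type u) [Field k] [IsAlgClosed k] [CharZero k]
    (X : Scheme.{u}) [X.Over (Spec (CommRingCat.of k))]
    [IsProper (X ↘ Spec (CommRingCat.of k))] [Smooth (X ↘ Spec (CommRingCat.of k))]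
    [GeometricallyConnected (X ↘ Spec (CommRingCat.of k))] (hdim : topologicalKrullDim ↥X = 1)
    (g : ℕ) (hg : Curv2.genus k X = g) (hg2 : 2 ≤ g)
    (r m : ℕ) (hr : 2 ≤ r) (hm : 2 ≤ m) (N : X.Modules) (hN : PicF.IsInvertible N) (hNdeg : Curv2.deg k X N 1 = (g : ℤ) - 1)
    (hNth : Nonempty (CohB1.tensorMod N N ≅ Omega.sheaf (X ↘ Spec (CommRingCat.of k))))
    (J : Over (Spec (CommRingCat.of k))) [GrpObj J] [IsCommMonObj J]
    (ψ : (ModFun.PicDeg (X ↘ Spec (CommRingCat.of k)) 0).Hom ⊤ J) (hJ : Jac.IsJacobian (X ↘ Spec (CommRingCat.of k)) ⊤ J ψ)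
    (ΘJ : J.left.Modules) (hΘJ : Jac.IsThetaLB (X ↘ Spec (CommRingCat.of k)) 0 ψ N ΘJ)
    (φJ : AgPol.DualMap J J) (hsd : Jac.IsSelfDual Scheme.fppfPrecoverage J φJ ΘJ)
    (P : (pullback J.hom J.hom).Modules) (hP : PicF.IsInvertible P) (hPP : AbDual.IsPoincareCl J J φJ (PicF.cl P))
    [HasInjectiveResolutions (pullback J.hom J.hom).Modules]
    (M₁ : Over (Spec (CommRingCat.of k))) (φ₁ : (BunMod.USS (X ↘ Spec (CommRingCat.of k)) r 0).Hom ⊤ M₁)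
    (hM₁ : BunMod.IsModSS (X ↘ Spec (CommRingCat.of k)) ⊤ r 0 M₁ φ₁)
    (hne₁ : ∀ (Ω : Type u) [Field Ω] [IsAlgClosed Ω] (t : Spec (CommRingCat.of Ω) ⟶ Spec (CommRingCat.of k)),
      Nonempty (Over.mk t ⟶ M₁))
    (Θ₁ : M₁.left.Modules) (hΘ₁ : BunMod.IsThetaLB (X ↘ Spec (CommRingCat.of k)) (BunMod.ussOK (X ↘ Spec (CommRingCat.of k)) r 0) φ₁ N Θ₁)
    (d₁ : M₁ ⟶ J) (hd₁ : BunMod.IsDetMap (X ↘ Spec (CommRingCat.of k)) (BunMod.ussOK (X ↘ Spec (CommRingCat.of k)) r 0) φ₁ 0 ψ d₁)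
    (M₂ : Over (Spec (CommRingCat.of k))) (φ₂ : (BunMod.USS (X ↘ Spec (CommRingCat.of k)) m 0).Hom ⊤ M₂)
    (hM₂ : BunMod.IsModSS (X ↘ Spec (CommRingCat.of k)) ⊤ m 0 M₂ φ₂)
    (hne₂ : ∀ (Ω : Type u) [Field Ω] [IsAlgClosed Ω] (t : Spec (CommRingCat.of Ω) ⟶ Spec (CommRingCat.of k)),
      Nonempty (Over.mk t ⟶ M₂))
    (Θ₂ : M₂.left.Modules) (hΘ₂ : BunMod.IsThetaLB (X ↘ Spec (CommRingCat.of k)) (BunMod.ussOK (X ↘ Spec (CommRingCat.of k)) m 0) φ₂ N Θ₂)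
    (d₂ : M₂ ⟶ J) (hd₂ : BunMod.IsDetMap (X ↘ Spec (CommRingCat.of k)) (BunMod.ussOK (X ↘ Spec (CommRingCat.of k)) m 0) φ₂ 0 ψ d₂)
    (h₁ : CokD k X g N) (h₂ : KSD k X N) :
    Nonempty ((Scheme.Modules.pullback ((𝟙 J) ^ r : J ⟶ J).left).obj
        (RefHull.dual ((Scheme.Modules.pushforward d₁.left).obj (CohB1.tensorPow Θ₁ m))) ≅
      (Scheme.Modules.pullback ((𝟙 J) ^ r : J ⟶ J).left).obj
        ((Coh.Rpush (pullback.snd J.hom J.hom) 0).obj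
        (CohB1.tensorMod ((Scheme.Modules.pullback (pullback.fst J.hom J.hom)).obj ((Scheme.Modules.pushforward d₂.left).obj (CohB1.tensorPow Θ₂ r))) P))) := by
  obtain ⟨A₁⟩ := K140.BM.exists_atlasC (X := X) (k := k) hdim (by omega : 1 ≤ r)
  obtain ⟨A₂⟩ := K140.BM.exists_atlasC (X := X) (k := k) hdim (by omega : 1 ≤ m)
  have hg' : 2 ≤ Curv2.genus k X := by omega
  have hNd : Curv2.deg k X N 1 = (Curv2.genus k X : ℤ) - 1 := by rw [hg]; exact hNdeg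
  have I₁ := K319.Fin.inp hdim hJ (by omega : 1 ≤ r) hM₁ hd₁ A₁
    (Groth.Agent.BunMod.K356.ThetaFin.uss hdim hg' hN hNd (by omega : 1 ≤ r) hM₁.2.1).fam
  have I₂ := K319.Fin.inp hdim hJ (by omega : 1 ≤ m) hM₂ hd₂ A₂
    (Groth.Agent.BunMod.K356.ThetaFin.uss hdim hg' hN hNd (by omega : 1 ≤ m) hM₂.2.1).fam
  have := I₁.proper
  have := I₂.proper
  exact K536.RowS.row k X hdim g hg hg2 r m hr hm N hN hNdeg hNth J ψ hJ ΘJ hΘJ φJ hsd P hP hPP M₁ φ₁ hM₁ hne₁ Θ₁ hΘ₁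
    d₁ hd₁ M₂ φ₂ hM₂ hne₂ Θ₂ hΘ₂ d₂ hd₂ (reg_seed k X hdim hg hg2 hr hm hN hNdeg h₁ h₂ φ₁ hM₁)
    (reg_seed k X hdim hg hg2 hm hr hN hNdeg h₁ h₂ φ₂ hM₂)

end K536.RowT
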